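import Groth.Agent.S15385
import Groth.Agent.Lib.StackGal23.Class
import Groth.Prelude.Def_NonAbH2

/-!
# Torsors under a finite étale group over a finite field: the mass formula
-/

set_option autoImplicit false
set_option linter.style.haveILetI false
set_option linter.unusedSectionVars false
set_option backward.isDefEq.respectTransparency false
set_option backward.isDefEq.respectTransparency.types false
universe u

open CategoryTheory MonoidalCategory CartesianMonoidalCategory MonObj GrpObj AlgebraicGeometry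
open Limits (pullback)

namespace Groth.Agent.H1Mass19

noncomputable section

instance locallyOfFiniteType_tensorUnit (k : Type u) [Field k] :
    LocallyOfFiniteType (MonoidalCategoryStruct.tensorUnit (Over (Spec (CommRingCat.of k)))).hom :=
  inferInstanceAs (LocallyOfFiniteType (𝟙 (Spec (CommRingCat.of k))))

open StackGal23

variable {k : Type u} [Field k] [Finite k] {G : Over (Spec (CommRingCat.of k))} [GrpObj G]
  [IsAffineHom G.hom] [LocallyOfFiniteType G.hom]

/-- The rational base. -/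
abbrev B0 (k : Type u) [Field k] : Over (Spec (CommRingCat.of k)) := SGA7.pt (K := k) k

theorem B0_hom : (B0 k).hom = 𝟙 (Spec (CommRingCat.of k)) := Spec.map_id _

theorem to_B0_unique {T : Over (Spec (CommRingCat.of k))} (f g : T ⟶ B0 k) : f = g := by
  apply Over.OverMorphism.ext
  have hf : f.left ≫ (B0 k).hom = T.hom := Over.w f
  have hg : g.left ≫ (B0 k).hom = T.hom := Over.w g
  rw [B0_hom] at hf hg
  exact (Category.comp_id f.left).symm.trans (hf.trans (hg.symm.trans (Category.comp_id g.left)))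

/-- The structure morphism. -/
def toB0 (T : Over (Spec (CommRingCat.of k))) : T ⟶ B0 k :=
  Over.homMk T.hom (by rw [B0_hom]; exact Category.comp_id _)

/-- A point over a finite extension gives local triviality. -/
theorem isLocallyTrivial_of_pt {Y S' : Scheme.{u}} (π : Y ⟶ S') (e : S' ⟶ Spec (CommRingCat.of k)) [IsIso e]
    (L : Type u) [Field L] [Algebra k L] [FiniteDimensional k L] (s : Spec (CommRingCat.of L) ⟶ Y)
    (hs : s ≫ π ≫ e = Spec.map (CommRingCat.ofHom (algebraMap k L))) :
    NonAbH1.IsLocallyTrivialFor Scheme.fppfPrecoverage (Over.mk π : Over S') ∧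
      NonAbH1.IsLocallyTrivialFor Scheme.etalePrecoverage (Over.mk π : Over S') := by
  haveI : Finite L := Module.finite_of_finite k
  haveI : IsGalois k L := inferInstance
  haveI : Algebra.FormallyEtale k L := Algebra.FormallyEtale.of_isSeparable k L
  haveI : Algebra.FinitePresentation k L := Algebra.FinitePresentation.of_finiteType.1 inferInstance
  haveI : Algebra.Etale k L := ⟨inferInstance, inferInstance⟩
  haveI : Etale (Spec.map (CommRingCat.ofHom (algebraMap k L))) :=
    (HasRingHomProperty.Spec_iff (P := @Etale)).2 (RingHom.etale_algebraMap.2 inferInstance)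
  haveI : Etale (s ≫ π) := by
    rw [show s ≫ π = Spec.map (CommRingCat.ofHom (algebraMap k L)) ≫ inv e by
      rw [IsIso.eq_comp_inv, Category.assoc, hs]]
    infer_instance
  haveI : Nonempty ↥(Spec (CommRingCat.of L)) := inferInstanceAs (Nonempty (PrimeSpectrum L))
  have hsurj : Function.Surjective (s ≫ π).base := fun x => by
    obtain ⟨y⟩ := ‹Nonempty ↥(Spec (CommRingCat.of L))›
    refine ⟨y, e.homeomorph.injective ?_⟩
    exact @Subsingleton.elim _ (inferInstanceAs (Subsingleton (PrimeSpectrum k))) _ _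
  have hsec : ∀ ⦃T : Scheme.{u}⦄ (f : T ⟶ S'), Presieve.singleton (s ≫ π) f →
      NonAbH1.HasSectionOver (Over.mk π : Over S') f := by
    rintro T f ⟨⟩
    exact ⟨s, rfl⟩
  refine ⟨⟨Presieve.singleton (s ≫ π), ?_, hsec⟩, ⟨Presieve.singleton (s ≫ π), ?_, hsec⟩⟩
  · exact (Scheme.singleton_mem_precoverage_iff _ _).2 ⟨hsurj, inferInstance, inferInstance⟩
  · exact (Scheme.singleton_mem_precoverage_iff _ _).2 ⟨hsurj, inferInstance⟩

/-- Torsors have points over finite extensions. -/
theorem exists_finite_point (P : NonAbH1.TorsorSch G Scheme.fppfPrecoverage) :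
    ∃ L : IntermediateField k (AlgebraicClosure k), FiniteDimensional k L ∧
      ∃ s : Spec (CommRingCat.of L) ⟶ P.X.left,
        s ≫ P.X.hom = Spec.map (CommRingCat.ofHom (algebraMap k L)) := by
  obtain ⟨R, hR, hs⟩ := P.isTorsor.2
  obtain ⟨b⟩ : Nonempty ↥(Spec (CommRingCat.of k)) := inferInstanceAs (Nonempty (PrimeSpectrum k))
  obtain ⟨_, _, hh, c, -⟩ := hR.1 b
  rcases hh with @⟨S', f, hf⟩
  obtain ⟨hfl, hfp⟩ := hR.2 hf
  haveI : LocallyOfFinitePresentation f := hfp
  obtain ⟨s, hs⟩ := hs f hf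
  haveI : Nonempty ↥S' := ⟨c⟩
  haveI : Surjective f := ⟨Function.surjective_to_subsingleton (β := PrimeSpectrum k) f.base⟩
  haveI := IsAlgClosure.isAlgClosed k (K := AlgebraicClosure k)
  obtain ⟨p, hp⟩ := FinCondH13.lift_of_surjective f (AlgebraicClosure k)
    (Spec.map (CommRingCat.ofHom (algebraMap k (AlgebraicClosure k))))
  let W : Over (Spec (CommRingCat.of k)) := Over.mk f
  haveI : LocallyOfFiniteType W.hom := inferInstanceAs (LocallyOfFiniteType f)
  let pW : SGA7.pt (K := k) (AlgebraicClosure k) ⟶ W := Over.homMk p hp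
  obtain ⟨L, hL, pL, -⟩ := exists_factor (k := k) (k' := k) pW
  exact ⟨L, hL, pL.left ≫ s, by rw [Category.assoc, hs]; exact Over.w pL⟩

/-- The object of a torsor. -/
def toObj (P : NonAbH1.TorsorSch G Scheme.fppfPrecoverage) : Obj k (AlgSt.trivAction G) :=
  ⟨{ base := B0 k
     P := P.X
     act := P.act
     π := toB0 P.X
     cart := by
       haveI : IsIso (lift P.act.act (snd G P.X)) := P.isTorsor.1
       have h : IsPullback (fst P.X P.X) (snd P.X P.X) (toB0 P.X) (toB0 P.X) :=
         ⟨⟨to_B0_unique _ _⟩, ⟨Limits.PullbackCone.IsLimit.mk _ (fun c => lift c.fst c.snd)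
           (fun c => lift_fst _ _) (fun c => lift_snd _ _)
           (fun c m h1 h2 => by
             apply CartesianMonoidalCategory.hom_ext
             · rw [lift_fst]; exact h1
             · rw [lift_snd]; exact h2)⟩⟩
       refine h.of_iso (asIso (lift P.act.act (snd G P.X))).symm (Iso.refl _) (Iso.refl _) (Iso.refl _) ?_ ?_ ?_ ?_
       · simp
       · simp
       · simp
       · simp
     loc := by
       obtain ⟨L, hL, s, hs⟩ := exists_finite_point P
       haveI := hL
       haveI : IsIso (B0 k).hom := by rw [B0_hom]; exact IsIso.id _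
       exact (isLocallyTrivial_of_pt (toB0 P.X).left (B0 k).hom L s (by
         rw [Over.w (toB0 P.X), hs])).2
     φ := toUnit _
     eqv := toUnit_unique _ _ }, rfl⟩

/-- The torsor of an object. -/
theorem exists_torsor_of_obj (A : Obj k (AlgSt.trivAction G)) :
    ∃ (P : NonAbH1.TorsorSch G Scheme.fppfPrecoverage), Nonempty (toObj P ⟶ A) := by
  obtain ⟨t, ht⟩ := exists_pt (AlgebraicClosure k) A
  obtain ⟨L, hL, tL, -⟩ := exists_factor_pt A t ht
  haveI := hL
  have hpseudo : IsIso (lift A.1.act.act (snd G A.1.P)) := by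
    have h : IsPullback (fst A.1.P A.1.P) (snd A.1.P A.1.P) A.1.π A.1.π := by
      refine ⟨⟨?_⟩, ⟨Limits.PullbackCone.IsLimit.mk _ (fun c => lift c.fst c.snd)
        (fun c => lift_fst _ _) (fun c => lift_snd _ _) (fun c m h1 h2 => ?_)⟩⟩
      · exact (cancel_mono (eqToHom A.2)).1 (to_B0_unique _ _)
      · apply CartesianMonoidalCategory.hom_ext
        · rw [lift_fst]; exact h1
        · rw [lift_snd]; exact h2
    have e : lift A.1.act.act (snd G A.1.P) = (A.1.cart.isoIsPullback _ _ h).hom := by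
      apply CartesianMonoidalCategory.hom_ext
      · rw [lift_fst, IsPullback.isoIsPullback_hom_fst]
      · rw [lift_snd, IsPullback.isoIsPullback_hom_snd]
    rw [e]; infer_instance
  have hloc := (isLocallyTrivial_of_pt A.1.P.hom (𝟙 _) L tL.left (by rw [Category.comp_id]; exact Over.w tL)).1
  let P : NonAbH1.TorsorSch G Scheme.fppfPrecoverage := ⟨A.1.P, A.1.act, hpseudo, hloc⟩
  let q : (toObj P).1 ⟶ A.1 :=
    AlgSt.QuotObj.Hom.mk (eqToHom A.2.symm) (𝟙 A.1.P)
      (by
        show A.1.act.act ≫ 𝟙 _ = (G ◁ 𝟙 _) ≫ A.1.act.act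
        simp)
      (haveI : IsIso (𝟙 A.1.P) := IsIso.id _
       haveI : IsIso (𝟙 (toObj P).1.P) := IsIso.id _
       IsPullback.of_horiz_isIso ⟨(cancel_mono (eqToHom A.2)).1 (to_B0_unique _ _)⟩)
      (toUnit_unique _ _)
  refine ⟨P, ⟨⟨q, IsHomLift.of_fac' _ _ q rfl A.2 ?_⟩⟩⟩
  show eqToHom A.2.symm = _
  simp

/-- Morphisms of objects from equivariant isomorphisms. -/
def homOfEquiv {P Q : NonAbH1.TorsorSch G Scheme.fppfPrecoverage} (e : NonAbH1.EquivIso P.act Q.act) :
    toObj P ⟶ toObj Q :=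
  ⟨{ base := 𝟙 _, top := e.iso.hom, eqv := e.comm,
     cart := IsPullback.of_horiz_isIso ⟨to_B0_unique _ _⟩, wφ := toUnit_unique _ _ },
    IsHomLift.of_fac' _ _ _ rfl rfl (by show 𝟙 _ = _; simp; rfl)⟩

theorem fiber_base {A A' : Obj k (AlgSt.trivAction G)} (g : A ⟶ A') :
    g.1.base = eqToHom (A.2.trans A'.2.symm) := by
  haveI := g.2
  have := IsHomLift.fac' (AlgSt.QuotSt Scheme.etalePrecoverage G (AlgSt.trivAction G)).p (𝟙 (SGA7.pt (K := k) k)) g.1
  simpa [AlgSt.QuotObj.forget] using this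

/-- The equivariant isomorphism of an isomorphism of objects. -/
def equivOfIso {P Q : NonAbH1.TorsorSch G Scheme.fppfPrecoverage} (e : toObj P ≅ toObj Q) :
    NonAbH1.EquivIso P.act Q.act where
  iso := ⟨e.hom.1.top, e.inv.1.top, congrArg (fun f => f.1.top) e.hom_inv_id, congrArg (fun f => f.1.top) e.inv_hom_id⟩
  comm := e.hom.1.eqv

/-- Automorphisms of the object are the equivariant automorphisms. -/
noncomputable def autEquiv (P : NonAbH1.TorsorSch G Scheme.fppfPrecoverage) :
    Aut (toObj P) ≃ NonAbH1.EquivIso P.act P.act where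
  toFun e := equivOfIso e
  invFun e := @asIso _ _ _ _ (homOfEquiv e) (isIso_hom _ (AlgebraicClosure k))
  left_inv e := by
    apply Iso.ext
    exact Functor.Fiber.hom_ext (AlgSt.QuotObj.hom_ext ((fiber_base e.hom).trans (eqToHom_refl _ rfl)).symm rfl)
  right_inv e := by
    obtain ⟨i, hi⟩ := e
    show NonAbH1.EquivIso.mk _ _ = _
    congr 1
    exact Iso.ext rfl

/-- The classes. -/
noncomputable def classMap :
    NonAbH1.H1Sch G Scheme.fppfPrecoverage → StkCnt.IsoCl (Obj k (AlgSt.trivAction G)) :=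
  Quot.lift (fun P => StkCnt.IsoCl.mk (toObj P)) fun P Q ⟨e⟩ => by
    haveI := isIso_hom (homOfEquiv e) (AlgebraicClosure k)
    exact Quotient.sound ⟨asIso (homOfEquiv e)⟩

theorem classMap_bijective : Function.Bijective (classMap (G := G) (k := k)) := by
  refine ⟨fun x y => ?_, fun c => ?_⟩
  · obtain ⟨P, rfl⟩ := Quot.exists_rep x
    obtain ⟨Q, rfl⟩ := Quot.exists_rep y
    intro e
    obtain ⟨e'⟩ := Quotient.exact (e : StkCnt.IsoCl.mk (toObj P) = StkCnt.IsoCl.mk (toObj Q))
    exact Quot.sound ⟨equivOfIso e'⟩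
  · obtain ⟨P, ⟨f⟩⟩ := exists_torsor_of_obj c.out
    haveI := isIso_hom f (AlgebraicClosure k)
    exact ⟨Quot.mk _ P, (Quotient.sound ⟨asIso f⟩ : StkCnt.IsoCl.mk (toObj P) = StkCnt.IsoCl.mk c.out).trans
      (Quotient.out_eq c)⟩

theorem autCard_classMap (ξ : NonAbH1.H1Sch G Scheme.fppfPrecoverage) :
    StkCnt.autCard _ (classMap ξ) = Nat.card (NonAbH1.EquivIso (Quot.out ξ).act (Quot.out ξ).act) := by
  conv_lhs => rw [← Quot.out_eq ξ]
  exact Nat.card_congr (autEquiv _)

theorem isEssFinite [IsFinite G.hom] [Etale G.hom] :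
    StkCnt.IsEssFinite (Obj k (AlgSt.trivAction G)) := by
  classical
  let kb := AlgebraicClosure k
  haveI : Finite (SGA7.pt (K := k) kb ⟶ G) := TateTors22.finite_points kb G
  choose t ht using fun A : Obj k (AlgSt.trivAction G) => exists_pt kb A
  choose z hz hrep using fun A => exists_rep_of_pt A (t A) (ht A)
  refine ⟨?_, fun A A' => ?_⟩
  · obtain ⟨fr, hfr⟩ : ∃ fr : kb ≃ₐ[k] kb, ∀ x, fr x = x ^ Nat.card k := by
      letI := Fintype.ofFinite k
      exact ⟨FiniteField.frobeniusAlgEquivOfAlgebraic k kb, fun x => by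
        rw [Nat.card_eq_fintype_card, FiniteField.coe_frobeniusAlgEquivOfAlgebraic]⟩
    refine Finite.of_injective (fun c : StkCnt.IsoCl (Obj k (AlgSt.trivAction G)) => z c.out fr) fun c d e => ?_
    letI : MulDistribMulAction (kb ≃ₐ[k] kb) (SGA7.pt (K := k) kb ⟶ G) := galAction k kb G
    have hbij := (S14195.result k fr hfr (SGA7.pt (K := k) kb ⟶ G) (fun a => isOpen_setOf_gal_eq a)
      (fun a => ⟨⊤, Set.toFinite _, trivial, fun _ _ _ => trivial⟩)).1
    have e' := @hbij.1 ⟨⟨z c.out, (hz c.out).1⟩, (hz c.out).2⟩ ⟨⟨z d.out, (hz d.out).1⟩, (hz d.out).2⟩ e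
    have ez : z c.out = z d.out := congrArg (fun w => (w.1 : (kb ≃ₐ[k] kb) → _)) e'
    have h' := hrep d.out
    rw [← ez, show t d.out ≫ d.out.1.φ = t c.out ≫ c.out.1.φ from toUnit_unique _ _] at h'
    obtain ⟨f, -⟩ := exists_hom (hrep c.out) h'
    haveI := isIso_hom f kb
    rw [← Quotient.out_eq c, ← Quotient.out_eq d]
    exact Quotient.sound ⟨asIso f⟩
  · rcases isEmpty_or_nonempty (A ⟶ A') with h | ⟨⟨f⟩⟩
    · infer_instance
    · let x : Fix kb (AlgSt.trivAction G) (z A) := ⟨t A ≫ A.1.φ, (hrep A).fix⟩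
      obtain ⟨E⟩ := exists_homEquiv (x := x) (x' := x) (hrep A) ((hrep A).map f)
      exact Finite.of_injective E E.injective

theorem main [IsFinite G.hom] [Etale G.hom] :
    Finite (NonAbH1.H1Sch G Scheme.fppfPrecoverage) ∧
      ∑ᶠ ξ : NonAbH1.H1Sch G Scheme.fppfPrecoverage,
        ((Nat.card (NonAbH1.EquivIso (Quot.out ξ).act (Quot.out ξ).act) : ℚ))⁻¹ = 1 := by
  have h := isEssFinite (G := G) (k := k)
  haveI : Finite (StkCnt.IsoCl (Obj k (AlgSt.trivAction G))) := h.finite_isoCl
  haveI := Fintype.ofFinite (StkCnt.IsoCl (Obj k (AlgSt.trivAction G)))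
  refine ⟨Finite.of_injective classMap (classMap_bijective (G := G) (k := k)).1, ?_⟩
  have e1 : StkCnt.count (Obj k (AlgSt.trivAction G)) h = 1 := S15385.result k G k h
  rw [StkCnt.count_eq_sum, ← finsum_eq_sum_of_fintype] at e1
  rw [← e1]
  exact finsum_eq_of_bijective classMap (classMap_bijective (G := G) (k := k))
    (fun ξ => by rw [autCard_classMap])

end

end Groth.Agent.H1Mass19
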